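import Cfsg.Prelude.Def_Spor_Mathieu
import Cfsg.Agent.H994.TwoGen.Suz
import Cfsg.Agent.H994.TwoGen.Chain
import Cfsg.Agent.SporadicA.MathieuRecog
import Cfsg.Agent.J4.M24Hom
import Cfsg.Agent.Prune
set_option linter.all false
open scoped Cfsg.Agent.FastGrp
/-
The Mathieu group M₂₂ is generated by two explicit permutations (of orders 11 and 2).
-/
set_option autoImplicit false

namespace Cfsg.Agent.H994.TwoGen.M22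

open Cfsg Cfsg.Agent.H994.TwoGen Cfsg.Agent.H994.TwoGen.Chain
open Cfsg.Agent.J4.M24Hom (fn)

/-- table of `X` -/
def tx : List ℕ := [0, 9, 1, 15, 17, 2, 3, 16, 19, 13, 5, 14, 22, 6, 10, 11, 12, 20, 8, 7, 21, 18, 4, 23]
/-- table of `X⁻¹` -/
def txi : List ℕ := [0, 2, 5, 6, 22, 10, 13, 19, 18, 1, 14, 15, 16, 9, 11, 3, 7, 4, 21, 8, 17, 20, 12, 23]
/-- table of `Y` -/
def ty : List ℕ := [0, 19, 6, 20, 4, 10, 2, 7, 13, 15, 5, 11, 12, 8, 17, 9, 16, 14, 22, 1, 3, 21, 18, 23]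
/-- table of `Y⁻¹` -/
def tyi : List ℕ := [0, 19, 6, 20, 4, 10, 2, 7, 13, 15, 5, 11, 12, 8, 17, 9, 16, 14, 22, 1, 3, 21, 18, 23]

/-- the first generator -/
def X : Equiv.Perm GolayPt where
  toFun := fn tx
  invFun := fn txi
  left_inv := by decide +kernel
  right_inv := by decide +kernel

/-- the second generator -/
def Y : Equiv.Perm GolayPt where
  toFun := fn ty
  invFun := fn tyi
  left_inv := by decide +kernel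
  right_inv := by decide +kernel

theorem X_mem24 : X ∈ M24 :=
  SporadicA.GolayWalk.mem_M24_of_table X tx rfl (by decide +kernel) (by decide +kernel)

theorem Y_mem24 : Y ∈ M24 :=
  SporadicA.GolayWalk.mem_M24_of_table Y ty rfl (by decide +kernel) (by decide +kernel)

theorem X_mem : X ∈ Spor.M22 :=
  (SporadicA.MathieuRecog.mem_M22_iff _).2 ⟨X_mem24, by decide +kernel, by decide +kernel⟩

theorem Y_mem : Y ∈ Spor.M22 :=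
  (SporadicA.MathieuRecog.mem_M22_iff _).2 ⟨Y_mem24, by decide +kernel, by decide +kernel⟩

/-- the stabiliser chain -/
def chain : List (GolayPt × List (List ℕ)) :=
  [(some 1, [[], [2], [2, 1, 0], [0, 1, 2, 2, 1], [2, 2], [1, 2], [0, 1], [2, 1], [0], [1, 2, 2], [0, 1, 0], [0, 0, 0,
  1], [0, 0], [0, 0, 1, 0], [1, 0], [0, 0, 1], [1, 0, 0, 1, 0], [2, 2, 1], [1], [1, 2, 1, 0], [2, 2, 2,
  1], [1, 2, 2, 1]]),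
   (some 2, [[], [1, 0, 1, 2, 1, 2], [0, 1, 2, 2, 1, 0], [0, 1, 0, 0, 0, 1, 0, 1, 0, 0], [1, 2, 2, 1, 0, 0, 1], [2, 1,
  0, 0, 0, 1, 2, 1], [0, 0, 1, 2, 2, 1, 0, 0, 0], [0, 1, 0, 1, 2, 1], [0, 1, 0, 1, 2, 2, 1, 0, 1], [1, 0,
  1, 0, 0], [2, 2, 1, 2, 2, 1, 0, 1], [2, 1, 0, 0, 1, 2], [1, 2, 1, 0, 1], [2, 2, 2, 1, 2], [2, 2, 2, 1,
  0, 0, 0, 0, 0, 1, 0], [2, 1, 0, 0, 0, 0, 0], [1, 2, 2, 2, 1, 2, 1, 2, 2, 1], [0, 1, 0, 0, 0], [0, 0, 1,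
  2, 1, 2, 2, 2], [2, 2, 1, 2, 1], [1, 0, 1, 2, 2, 2, 1, 0]]),
   (some 3, [[], [0, 0, 1, 0, 1, 2, 2, 2, 2, 2, 1], [1, 0, 0, 1, 2, 1, 0, 1, 2, 2, 1], [1, 2, 2, 2, 1, 0, 0, 0, 1],
  [2, 2, 1, 0, 0, 0, 1, 2, 1, 0], [1, 0, 0, 0, 0, 1, 0, 0, 0, 0], [2, 1, 0, 0, 1, 0, 1, 0, 0, 0, 1, 0],
  [1, 0, 1, 0, 0, 0, 0, 1, 2, 2, 2], [0, 0, 0, 0, 1, 2, 2, 1, 0, 1, 0, 1, 2], [2, 1, 2, 1, 0, 1, 0], [0,
  0, 0, 1, 2, 2, 2, 2, 1, 2, 1], [0, 0, 1, 0, 0, 0, 1, 2, 2, 1, 2], [1, 0, 1, 2, 1, 0, 0, 1, 2, 2], [1,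
  2, 1, 2, 1, 0, 1, 0, 1], [2, 1, 2, 1, 0, 0, 1, 2, 2, 2, 1, 0, 0], [0, 1, 0, 0, 1, 2, 2, 1, 2, 1, 0, 0,
  0, 0], [0, 1, 2, 1, 0, 1, 0, 0, 1, 2, 1, 2, 1], [0, 1, 2, 1, 0, 0, 1, 0, 1, 2, 2, 1], [0, 0, 1, 2, 2,
  1, 0, 1, 2, 1], [1, 0, 0, 0, 0, 0, 1, 2, 1, 2, 2]]),
   (some 4, [[], [0, 0, 1, 2, 1, 2, 1, 0, 1, 0, 0, 1, 2, 2, 1], [1, 2, 2, 2, 1, 2, 1, 2, 2, 1, 2, 2, 1, 2, 1], [2, 2,
  2, 1, 0, 1, 0, 0, 1, 2, 2, 1, 2, 1, 0, 0, 0], [0, 1, 0, 0, 0, 0, 0, 1, 2, 2, 2, 2, 1, 0, 0, 1, 2], [1,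
  0, 1, 0, 0, 1, 0, 0, 1, 0, 1, 0, 0, 0, 1], [2, 1, 0, 1, 2, 2, 1, 0, 0, 0, 1, 0, 1, 2, 2, 1, 2, 1], [2,
  1, 0, 1, 2, 2, 1, 2, 1, 0, 1, 0, 0, 1, 2, 1, 0], [2, 1, 2, 2, 2, 1, 0, 0, 1, 0, 1, 2, 2, 1, 2, 1, 0],
  [2, 1, 0, 0, 0, 0, 1, 0, 0, 0, 0, 0], [0, 0, 1, 2, 2, 2, 1, 0, 0, 1, 0, 0, 0, 0, 0, 1, 0, 0], [2, 2, 2,
  1, 2, 2, 1, 2, 1, 2, 2, 2, 1, 2, 1, 2, 2, 2], [2, 2, 1, 2, 2, 1, 0, 1, 0, 1, 2, 1, 2, 2, 2, 1, 0, 0],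
  [2, 2, 1, 0, 0, 0, 1, 0, 1, 2, 1, 2, 1, 0, 0, 1, 0, 0], [1, 2, 2, 2, 2, 2, 1, 0, 1, 2, 1, 2, 1, 0, 1,
  2, 2, 2], [2, 1, 0, 1, 0, 0, 1, 2, 1, 2, 2, 1, 0, 0, 0, 1, 0]]),
   (some 5, [[], [2, 1, 2, 2, 2, 2, 1, 0, 0, 1, 2, 1, 2, 1, 2, 2, 1, 0, 1, 0], [2, 1, 2, 1, 0, 0, 1, 0, 1, 0, 1, 2, 2,
  1, 0, 0, 0, 0, 1, 0]])]

theorem chain_ok : ok X Y [] chain = true := by decide +kernel

theorem size_chain : size chain = 443520 := by decide +kernel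

theorem closure_eq : Subgroup.closure ({X, Y} : Set (Equiv.Perm GolayPt)) = Spor.M22 :=
  Chain.closure_eq X_mem Y_mem chain chain_ok (by rw [size_chain, SporadicA.MathieuRecog.card_M22])

/-- The Mathieu group M₂₂ is generated by two elements. -/
theorem twoGen {G : Type*} [Group G] (h : Cfsg.Spor.IsoM22 G) :
    ∃ x y : G, Subgroup.closure ({x, y} : Set G) = ⊤ := by
  obtain ⟨e⟩ := h
  exact of_equiv e (of_closure closure_eq)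

end Cfsg.Agent.H994.TwoGen.M22
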