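import Cfsg.Prelude.Def_Spor_Mathieu
import Cfsg.Agent.H994.TwoGen.Suz
import Cfsg.Agent.H994.TwoGen.Chain
import Cfsg.Agent.MTwelveType.SylowModel
import Cfsg.Agent.J4.M24Hom
import Cfsg.Agent.Prune
set_option linter.all false
prune_inst 0x7f00000000000000000000000000000000000000000000000000000000000000000000000000000000000000000000000000000000000000000000000000000000000000000000000000000000000000003fffffffffffffffffffffffffffbeffbdffffffff
open scoped Cfsg.Agent.FastGrp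
/-
The Mathieu group M₁₁ is generated by two explicit permutations (of orders 11 and 2).
-/
set_option autoImplicit false

namespace Cfsg.Agent.H994.TwoGen.M11

open Cfsg Cfsg.Agent.H994.TwoGen Cfsg.Agent.H994.TwoGen.Chain
open Cfsg.Agent.J4.M24Hom (fn)
open scoped Pointwise

/-- table of `X` -/
def tx : List ℕ := [0, 13, 6, 18, 9, 19, 3, 14, 12, 16, 23, 15, 2, 4, 21, 17, 8, 10, 1, 20, 7, 11, 22, 5]
/-- table of `X⁻¹` -/
def txi : List ℕ := [0, 18, 12, 6, 13, 23, 2, 20, 16, 4, 17, 21, 8, 1, 7, 11, 9, 15, 3, 5, 19, 14, 22, 10]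
/-- table of `Y` -/
def ty : List ℕ := [0, 9, 2, 12, 18, 5, 16, 17, 8, 1, 15, 21, 3, 13, 22, 10, 6, 7, 4, 19, 20, 11, 14, 23]
/-- table of `Y⁻¹` -/
def tyi : List ℕ := [0, 9, 2, 12, 18, 5, 16, 17, 8, 1, 15, 21, 3, 13, 22, 10, 6, 7, 4, 19, 20, 11, 14, 23]

/-- the first generator -/
def X : Equiv.Perm GolayPt where
  toFun := fn tx
  invFun := fn txi
  left_inv := by decide +kernel
  right_inv := by decide +kernel

/-- the second generator -/
def Y : Equiv.Perm GolayPt where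
  toFun := fn ty
  invFun := fn tyi
  left_inv := by decide +kernel
  right_inv := by decide +kernel

theorem X_mem24 : X ∈ M24 :=
  SporadicA.GolayWalk.mem_M24_of_table X tx rfl (by decide +kernel) (by decide +kernel)

theorem Y_mem24 : Y ∈ M24 :=
  SporadicA.GolayWalk.mem_M24_of_table Y ty rfl (by decide +kernel) (by decide +kernel)

open Cfsg.Agent.SporadicStructure.M11InvPerms Cfsg.Agent.MTwelveType.SylowModel in
theorem X_dd : ∀ p ∈ dd, X p ∈ dd := by decide +kernel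

open Cfsg.Agent.SporadicStructure.M11InvPerms Cfsg.Agent.MTwelveType.SylowModel in
theorem Y_dd : ∀ p ∈ dd, Y p ∈ dd := by decide +kernel

theorem X_mem : X ∈ Spor.M11 := by
  refine Subgroup.mem_inf.2 ⟨MTwelveType.SylowModel.mem_M12 X_mem24 X_dd, ?_⟩
  rw [MulAction.mem_stabilizer_iff]
  show X (some 0) = some 0
  decide +kernel

theorem Y_mem : Y ∈ Spor.M11 := by
  refine Subgroup.mem_inf.2 ⟨MTwelveType.SylowModel.mem_M12 Y_mem24 Y_dd, ?_⟩
  rw [MulAction.mem_stabilizer_iff]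
  show Y (some 0) = some 0
  decide +kernel

open Cfsg.Agent.SporadicStructure.M11InvPerms Cfsg.Agent.MTwelveType.SylowModel in
theorem card_M11 : Nat.card Spor.M11 = 7920 := by
  have h1 : Spor.M11 = SporadicStructure.DodecadStab.DFix dd [some 0] := by
    ext g
    rw [SporadicStructure.DodecadStab.mem_DFix]
    constructor
    · intro h
      obtain ⟨h0, h4⟩ := Subgroup.mem_inf.mp h
      obtain ⟨h2, h3⟩ := Subgroup.mem_inf.mp h0
      rw [MulAction.mem_stabilizer_iff, squareDodecad_eq] at h3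
      rw [MulAction.mem_stabilizer_iff] at h4
      refine ⟨h2, h3, ?_⟩
      intro q hq
      rw [List.mem_singleton] at hq
      subst hq
      exact h4
    · rintro ⟨h2, h3, h4⟩
      refine Subgroup.mem_inf.mpr ⟨Subgroup.mem_inf.mpr ⟨h2, ?_⟩, ?_⟩
      · rw [MulAction.mem_stabilizer_iff, squareDodecad_eq]
        exact h3
      · rw [MulAction.mem_stabilizer_iff]
        exact h4 _ (List.mem_singleton.2 rfl)
  rw [h1, SporadicStructure.DodecadStab.card_DFix dd_mem [some 0] (List.nodup_singleton _)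
    (by intro q hq; rw [List.mem_singleton] at hq; subst hq; decide +kernel) (by simp)]
  decide

/-- the stabiliser chain -/
def chain : List (GolayPt × List (List ℕ)) :=
  [(some 1, [[], [2, 1, 0, 1], [2, 2], [0, 0], [1, 0, 1], [0, 0, 1], [1], [1, 2, 2], [0], [0, 1], [2]]),
   (some 2, [[], [1, 0, 0, 1, 0], [1, 0, 0, 0], [2, 2, 2, 1, 2, 1, 0], [1, 0, 0, 0, 1, 0, 0, 0], [2, 1, 0], [0, 1, 0,
  1, 0], [2, 1, 0, 1, 0, 0, 1, 0], [2, 2, 2, 1], [0, 1, 2, 1]]),
   (some 3, [[], [2, 2, 1, 2], [1, 0, 1, 0, 0, 0, 0, 1, 2, 2], [2, 1, 0, 1, 0, 1, 2, 2, 1, 0], [1, 2, 1, 2, 2, 1, 0,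
  0], [0, 0, 0, 0, 1, 0, 0, 0, 0, 1], [1, 2, 1, 2, 2, 2, 2, 2, 1, 2], [0, 1, 0, 0], [0, 0, 0, 1, 0, 1]]),
   (some 4, [[], [2, 2, 1, 2, 2, 2, 1, 0, 0, 1, 0, 1], [2, 1, 2, 1, 0, 0, 1, 0, 0, 1, 2], [1, 2, 1, 2, 2, 1, 0, 0, 0,
  1, 0, 0], [0, 1, 2, 2, 2, 1, 0, 0, 0, 1, 2], [2, 2, 1, 2, 1, 2, 1, 2, 2, 2], [0, 1, 2, 2, 1, 2, 2, 1,
  0, 1, 0], [0, 0, 0, 1, 0, 1, 0, 1, 0, 0]])]

theorem chain_ok : ok X Y [] chain = true := by decide +kernel

theorem size_chain : size chain = 7920 := by decide +kernel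

theorem closure_eq : Subgroup.closure ({X, Y} : Set (Equiv.Perm GolayPt)) = Spor.M11 :=
  Chain.closure_eq X_mem Y_mem chain chain_ok (by rw [size_chain, card_M11])

/-- The Mathieu group M₁₁ is generated by two elements. -/
theorem twoGen {G : Type*} [Group G] (h : Cfsg.Spor.IsoM11 G) :
    ∃ x y : G, Subgroup.closure ({x, y} : Set G) = ⊤ := by
  obtain ⟨e⟩ := h
  exact of_equiv e (of_closure closure_eq)

end Cfsg.Agent.H994.TwoGen.M11
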