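import Cfsg.Prelude.Def_Spor_Mathieu
import Cfsg.Agent.H994.TwoGen.Suz
import Cfsg.Agent.H994.TwoGen.Chain
import Cfsg.Agent.SporadicA.MathieuRecog
import Cfsg.Agent.J4.M24Hom
import Cfsg.Agent.H994.TwoGen.Words
import Cfsg.Agent.HSType.Letters
import Cfsg.Agent.HN.AutHS
import Cfsg.Agent.Schreier.CoThreeCent
import Cfsg.Agent.H136.Gen2.Cox
import Cfsg.Agent.Prune
set_option linter.all false

section
prune_inst 0x7f00000000000000000000000000000000000000000000000000000000000000000000000000000000000000000000000000000000000000000000000000000000000000000000000000000000000000003fffffffffffffffffffffffffffbeffbdffffffff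

-- part: H994/TwoGen/M23
section
set_option linter.all false
open scoped Cfsg.Agent.FastGrp
/-
The Mathieu group M₂₃ is generated by two explicit permutations (of orders 23 and 2).
-/
set_option autoImplicit false

namespace Cfsg.Agent.H994.TwoGen.M23

open Cfsg Cfsg.Agent.H994.TwoGen Cfsg.Agent.H994.TwoGen.Chain
open Cfsg.Agent.J4.M24Hom (fn)

/-- table of `X` -/
def tx : List ℕ := [10, 3, 0, 4, 5, 17, 18, 19, 11, 6, 8, 9, 14, 7, 15, 13, 21, 16, 12, 22, 1, 2, 20, 23]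
/-- table of `X⁻¹` -/
def txi : List ℕ := [2, 20, 21, 1, 3, 4, 9, 13, 10, 11, 0, 8, 18, 15, 12, 14, 17, 5, 6, 7, 22, 16, 19, 23]
/-- table of `Y` -/
def ty : List ℕ := [0, 1, 2, 3, 12, 5, 9, 10, 16, 6, 7, 22, 4, 18, 14, 19, 8, 17, 13, 15, 21, 20, 11, 23]
/-- table of `Y⁻¹` -/
def tyi : List ℕ := [0, 1, 2, 3, 12, 5, 9, 10, 16, 6, 7, 22, 4, 18, 14, 19, 8, 17, 13, 15, 21, 20, 11, 23]

/-- the first generator -/
def X : Equiv.Perm GolayPt where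
  toFun := fn tx
  invFun := fn txi
  left_inv := by decide +kernel
  right_inv := by decide +kernel

/-- the second generator -/
def Y : Equiv.Perm GolayPt where
  toFun := fn ty
  invFun := fn tyi
  left_inv := by decide +kernel
  right_inv := by decide +kernel

theorem X_mem24 : X ∈ M24 :=
  SporadicA.GolayWalk.mem_M24_of_table X tx rfl (by decide +kernel) (by decide +kernel)

theorem Y_mem24 : Y ∈ M24 :=
  SporadicA.GolayWalk.mem_M24_of_table Y ty rfl (by decide +kernel) (by decide +kernel)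

theorem X_mem : X ∈ Spor.M23 := (SporadicA.MathieuRecog.mem_M23_iff _).2 ⟨X_mem24, by decide +kernel⟩

theorem Y_mem : Y ∈ Spor.M23 := (SporadicA.MathieuRecog.mem_M23_iff _).2 ⟨Y_mem24, by decide +kernel⟩

/-- the stabiliser chain -/
def chain : List (GolayPt × List (List ℕ)) :=
  [(some 0, [[], [0, 1, 2, 2], [2], [0, 0, 1, 2, 2], [2, 2, 2, 1, 0, 0], [2, 2, 1, 0, 0], [0, 0, 0, 0, 0], [1, 0], [0,
  0], [0, 0, 0, 0], [0], [0, 0, 0], [0, 1, 2, 1, 0], [2, 1, 0], [2, 1, 0, 1, 0], [1, 0, 1, 0], [1, 0, 0],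
  [2, 1, 0, 0], [1, 2, 1, 0], [0, 1, 0], [1, 2, 2], [2, 2], [1, 0, 0, 0]]),
   (some 1, [[], [0, 1, 2], [2, 2, 1, 2, 1, 0, 1, 0, 0, 0], [2, 2, 1, 2, 2, 1, 2], [2, 2, 1, 0, 1, 2, 2, 2, 2], [0, 0,
  0, 0, 1, 2, 2, 2, 2], [2, 1, 0, 0, 1, 0, 1, 0], [0, 0, 1, 0, 0, 1, 2, 2, 1, 0], [0, 1, 0, 0, 0, 1, 2,
  1, 0, 0], [2, 1, 2, 1, 2, 2, 1, 0], [1, 0, 1, 0, 0, 1, 0, 0], [2, 2, 1, 2, 2, 2], [0, 0, 0, 1, 0, 0],
  [2, 2, 2, 1, 2, 1, 2, 1, 2], [2, 2, 2, 2, 2, 2, 1, 2, 1, 0], [1, 0, 0, 1, 0, 0, 1, 2, 2, 1, 0], [2, 2,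
  2, 1, 0, 1, 2, 2, 1, 0], [1, 0, 0, 0, 1, 0, 0], [2, 1, 0, 1, 0, 1, 0, 0, 0, 0], [1, 0, 0, 1, 0, 1, 0,
  0, 0], [0, 0, 1, 0, 1, 0, 0, 0], [0, 1, 0, 0, 1, 0, 0]]),
   (some 2, [[], [2, 1, 0, 1, 0, 1, 0, 1, 2, 1, 2, 2], [2, 1, 2, 2, 1, 0, 0, 0], [2, 1, 2, 1, 0, 1, 0, 0, 1, 0, 1, 0,
  1, 0], [0, 1, 0, 0, 0, 0, 0, 1, 0, 1, 2, 1, 0], [1, 2, 1, 0, 0, 0, 0, 1, 2, 2, 2, 2, 2, 2], [0, 1, 0,
  0, 1, 2, 2, 1, 2, 1, 2, 1, 0], [0, 1, 2, 1, 2, 1, 2, 2, 2, 1, 2, 2], [2, 1, 0, 0, 0, 0, 1, 2, 2, 2, 2,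
  2, 2], [0, 1, 2, 2, 1, 2, 2, 2, 1, 2, 2], [1, 2, 1, 2, 2, 1, 0, 0, 0], [1, 0, 1, 0, 0, 0, 1, 2, 2, 2,
  1, 2], [2, 2, 2, 1, 0, 1, 0, 1, 2, 1, 2, 2, 1, 2, 2], [0, 1, 0, 0, 1, 2, 1, 2, 1, 2, 2], [1, 0, 1, 0,
  0, 1, 2, 2, 1, 2, 1, 2, 1, 0], [0, 0, 1, 0, 1, 0, 1, 2, 2, 1, 2], [0, 1, 0, 0, 0, 1, 2, 2, 2, 1, 2],
  [1, 0, 1, 0, 0, 1, 2, 1, 2, 1, 2, 2], [1, 0, 0, 1, 0, 0, 0, 1, 0, 0, 1, 2], [0, 0, 1, 0, 0, 0, 1, 0, 0,
  1, 2], [1, 0, 1, 2, 2, 1, 2, 2, 2, 1, 2, 2]]),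
   (some 3, [[], [1, 2, 2, 2, 2, 1, 2, 2, 2, 1, 0, 0, 0, 1, 0, 0, 0, 0], [2, 1, 2, 1, 2, 1, 0, 0, 1, 2, 2, 2, 2, 2, 2,
  1, 0], [0, 1, 2, 2, 2, 1, 0, 1, 2, 1, 0, 0], [2, 2, 2, 2, 1, 2, 2, 2, 2, 2, 1, 2, 2, 2, 2, 2, 1, 0],
  [0, 0, 0, 0, 0, 1, 0, 0, 0, 0, 1, 2, 1, 2], [1, 0, 1, 2, 2, 2, 1, 0, 1, 2, 1, 0, 0], [1, 2, 2, 2, 2, 1,
  2, 2, 2, 2, 2, 1, 2, 2, 2, 2, 2, 1, 0], [1, 0, 1, 2, 1, 2, 2, 1, 0, 1, 2, 1, 0, 0], [2, 2, 2, 2, 1, 2,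
  2, 2, 1, 0, 0, 0, 1, 0, 0, 0, 0], [1, 2, 2, 1, 0, 1, 2, 1, 0, 0, 0, 1, 2], [2, 1, 0, 0, 0, 0, 0, 0, 1,
  2, 2, 1, 0, 1, 0, 1, 0], [1, 0, 1, 0, 0, 0, 0, 1, 0, 0, 0, 0, 1, 2, 2], [1, 0, 0, 0, 0, 0, 1, 0, 0, 0,
  0, 1, 2, 1, 2], [0, 0, 0, 0, 0, 0, 0, 1, 2, 2, 2, 2, 2, 2, 2], [2, 2, 1, 0, 1, 2, 1, 0, 0, 0, 1, 2],
  [0, 1, 0, 0, 0, 0, 1, 0, 0, 0, 0, 1, 2, 2], [0, 1, 0, 1, 2, 2, 2, 2, 1, 2, 2, 2, 2, 2], [1, 0, 1, 0, 1,
  2, 2, 2, 2, 1, 2, 2, 2, 2, 2], [0, 1, 2, 1, 2, 2, 1, 0, 1, 2, 1, 0, 0]]),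
   (some 4, [[], [0, 1, 0, 1, 2, 2, 1, 0, 0, 1, 2, 2], [0, 1, 2, 1, 0, 1, 2], [1, 2, 2, 1, 0, 0, 1, 2, 1, 2, 1, 2, 2,
  2, 2, 1, 0, 1, 0, 1, 0], [1, 0, 1, 0, 1, 2, 2, 1, 0, 0, 1, 2, 2], [0, 1, 2, 1, 0, 1, 2, 1], [1, 0, 1,
  0, 1, 2, 2, 1, 0, 0, 1, 2, 2, 1], [1], [1, 0, 0, 1, 2, 2, 1, 0, 0, 1, 2, 1, 2], [2, 2, 1, 0, 0, 1, 2,
  1, 0, 0, 1, 0, 0, 0, 1, 2, 1, 0, 1, 0, 1, 0], [2, 2, 1, 0, 0, 1, 2, 1, 2, 1, 2, 2, 2, 2, 1, 0, 1, 0, 1,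
  0], [0, 0, 1, 2, 2, 1, 0, 0, 1, 2, 1, 2], [1, 2, 2, 1, 0, 0, 1, 2, 1, 0, 0, 1, 0, 0, 0, 1, 2, 1, 0, 1,
  0, 1, 0], [1, 0, 0, 1, 2, 2, 1, 0, 0, 1, 2, 1, 2, 1], [0, 0, 1, 2, 2, 1, 0, 0, 1, 2, 1, 2, 1], [0, 1,
  0, 1, 2, 2, 1, 0, 0, 1, 2, 2, 1]]),
   (some 5, [[], [1, 2, 1, 0, 1, 0, 1, 2, 1, 2, 1, 0, 1, 0, 1, 2, 2, 1, 0], [2, 1, 0, 0, 1, 2, 1, 2, 1, 0, 1, 0, 1, 2,
  1, 2, 1, 0, 1]])]

theorem chain_ok : ok X Y [] chain = true := by decide +kernel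

theorem size_chain : size chain = 10200960 := by decide +kernel

theorem closure_eq : Subgroup.closure ({X, Y} : Set (Equiv.Perm GolayPt)) = Spor.M23 :=
  Chain.closure_eq X_mem Y_mem chain chain_ok (by rw [size_chain, SporadicA.MathieuRecog.card_M23])

/-- The Mathieu group M₂₃ is generated by two elements. -/
theorem twoGen {G : Type*} [Group G] (h : Cfsg.Spor.IsoM23 G) :
    ∃ x y : G, Subgroup.closure ({x, y} : Set G) = ⊤ := by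
  obtain ⟨e⟩ := h
  exact of_equiv e (of_closure closure_eq)

end Cfsg.Agent.H994.TwoGen.M23
end

-- part: H994/TwoGen/M24_mg
section
set_option linter.all false
open scoped Cfsg.Agent.FastGrp

-- part: H994/TwoGen/M24
section
/-
The Mathieu group M₂₄ is generated by two elements.
-/
set_option autoImplicit false

namespace Cfsg.Agent.H994.TwoGen.M24

/-- The Mathieu group M₂₄ is generated by two elements. -/
theorem twoGen {G : Type*} [Group G] (h : Cfsg.Spor.IsoM24 G) :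
    ∃ x y : G, Subgroup.closure ({x, y} : Set G) = ⊤ := by
  obtain ⟨e⟩ := h
  exact of_equiv e (of_closure Cfsg.Agent.J4.M24Hom.closure_XY)

end Cfsg.Agent.H994.TwoGen.M24
end

-- part: H994/TwoGen/HS
section
/-
The Higman–Sims group is generated by two elements.
-/
set_option autoImplicit false

namespace Cfsg.Agent.H994.TwoGen.HS

open Cfsg Cfsg.Agent.H994.TwoGen Cfsg.Agent.H994.TwoGen.Words Cfsg.Agent.HSType.Letters

/-- the first element, as a word in the letters, and its inverse -/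
def wX : List ℕ := [9, 0]
/-- the inverse of the first element -/
def wXi : List ℕ := [1, 9]
/-- the second element, as a word in the letters, and its inverse -/
def wY : List ℕ := [10, 5]
/-- the inverse of the second element -/
def wYi : List ℕ := [6, 11]

theorem chk_X : chkOne (wX ++ wXi) = true := by decide +kernel
theorem chk_Y : chkOne (wY ++ wYi) = true := by decide +kernel

/-- the group generated by the two elements -/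
def H : Subgroup (Equiv.Perm (Fin 100)) := Subgroup.closure {val gl wX, val gl wY}

theorem mem {w : List ℕ} {k : ℕ} (h : chkOne (expand wX wY wXi wYi w ++ [k]) = true) : gl k ∈ H :=
  mem_of_word gl (ev_eq_one chk_X) (ev_eq_one chk_Y) (ev_eq_one h)

theorem mem_0 : gl 0 ∈ H := mem (w := [0, 0]) (by decide +kernel)
theorem mem_2 : gl 2 ∈ H := mem (w := [1, 1, 2, 3, 3, 0, 0, 1, 2, 2, 3, 3, 2, 1, 1]) (by decide +kernel)
theorem mem_3 : gl 3 ∈ H := mem (w := [1, 1, 2, 2, 3, 0, 0]) (by decide +kernel)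
theorem mem_5 : gl 5 ∈ H := mem (w := [0, 0, 1, 0, 0, 1, 0, 0, 1]) (by decide +kernel)
theorem mem_7 : gl 7 ∈ H := mem (w := [1, 0, 0, 1, 0, 0, 1, 0, 0]) (by decide +kernel)
theorem mem_9 : gl 9 ∈ H := mem (w := [0, 0, 0]) (by decide +kernel)
theorem mem_10 : gl 10 ∈ H := mem (w := [1, 2, 2, 1, 0, 0, 1, 1, 1]) (by decide +kernel)

theorem P_le : P ≤ H := by
  rw [P, Subgroup.closure_le]
  rintro _ (rfl | rfl | rfl | rfl | rfl | rfl | rfl)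
  · exact mem_0
  · exact mem_2
  · exact mem_3
  · exact mem_5
  · exact mem_7
  · exact mem_9
  · exact mem_10

theorem H_le : H ≤ P := by
  rw [H, Subgroup.closure_le]
  rintro _ (rfl | rfl)
  · exact ev_mem_P wX (by decide)
  · exact ev_mem_P wY (by decide)

theorem H_eq : Subgroup.closure ({val gl wX, val gl wY} : Set (Equiv.Perm (Fin 100))) = Cfsg.Agent.HN.HS100.Q :=
  (le_antisymm H_le P_le).trans P_eq

/-- The Higman–Sims group is generated by two elements. -/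
theorem twoGen {G : Type*} [Group G] (h : Cfsg.Spor.IsoHS G) :
    ∃ x y : G, Subgroup.closure ({x, y} : Set G) = ⊤ := by
  obtain ⟨e⟩ := h
  obtain ⟨⟨f⟩, -⟩ := Cfsg.Agent.HN.AutHS.nonempty_Q
  exact of_equiv (e.trans f.symm) (of_closure H_eq)

end Cfsg.Agent.H994.TwoGen.HS
end

-- part: H136/Gen2/Co3
section
/-!
# 2-generation of `Co₃` (helper136)

`gx`, `gy`, `gd` of orders 23, 11, 2 generate the group and `gd` commutes with `gy`.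
-/

set_option autoImplicit false

namespace Cfsg.Agent.H136.Gen2.Co3

open Subgroup Cfsg.Agent.Schreier.CoThreeCent Cfsg.Agent.LeechPack.X552

theorem two_gen_G3 : ∃ x y : G3, closure ({x, y} : Set G3) = ⊤ := by
  refine ⟨gx, gd * gy, ?_⟩
  set H := closure ({gx, gd * gy} : Set G3) with hH
  have hx : gx ∈ H := subset_closure (Set.mem_insert _ _)
  have hy : gd * gy ∈ H := subset_closure (Set.mem_insert_of_mem _ rfl)
  obtain ⟨h1, h2⟩ := split_mem (m := 2) (n := 11) gd_mul_gy (by rw [pow_two, gd_mul_gd]) gy_pow (by decide) hy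
  rw [eq_top_iff, ← closure_eq_top, closure_le]
  rintro z (rfl | rfl | rfl)
  · exact hx
  · exact h2
  · exact h1

theorem twoGen {G : Type*} [Group G] (h : Spor.IsoCo3 G) : ∃ x y : G, closure ({x, y} : Set G) = ⊤ := by
  obtain ⟨e⟩ := h
  obtain ⟨e'⟩ := isoCo3_G3
  exact two_gen_congr (e.trans e'.symm) two_gen_G3

end Cfsg.Agent.H136.Gen2.Co3
end

private theorem dce_9c38edc5092a : _root_.True := by
  try have : _root_.True := by simp only [_root_.Cfsg.Agent.H994.TwoGen.HS.H.eq_1]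
  exact _root_.True.intro
end
end
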